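import Cfsg.Agent.Forms.UnitaryTransvections
import Cfsg.Agent.RepBounds.Restrict
import Cfsg.Agent.RepBounds.Marginal

/-!
# Minimal degree of representations of special unitary groups

Restriction to the transvection parabolic: the non-trivial weights of the centre of the Heisenberg group have one
multiplicity `m ≥ q^(n-2)`, and the trivial one carries a representation of `SU_{n-2}` with non-trivial transvections.
-/

set_option autoImplicit false

namespace CfsgLib.RepBounds.Unit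

open Module

variable {F : Type*} [Field F] [Fintype F] (C : ConjField F)

noncomputable instance : Fintype C.skew := Fintype.ofFinite _

theorem card_skew' : Fintype.card C.skew = C.q := by
  rw [← Nat.card_eq_fintype_card, C.card_skew]

theorem card_nonzero_chars [DecidableEq (AddChar C.skew ℂ)] :
    (Finset.univ.erase (0 : AddChar C.skew ℂ)).card = C.q - 1 := by
  rw [Finset.card_erase_of_mem (Finset.mem_univ _), Finset.card_univ, AddChar.card_eq, card_skew']

/-- Multiplication by a norm. -/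
def scale (a : Fˣ) : C.skew ≃+ C.skew where
  toFun c := ⟨(a : F) * C.σ a * c.1, by
    rw [C.mem_skew, map_mul, map_mul, C.invol, C.skew_eq c.2]; ring⟩
  invFun c := ⟨(↑a⁻¹ : F) * C.σ ↑a⁻¹ * c.1, by
    rw [C.mem_skew, map_mul, map_mul, C.invol, C.skew_eq c.2]; ring⟩
  left_inv c := Subtype.ext (by
    show (↑a⁻¹ : F) * C.σ ↑a⁻¹ * ((a : F) * C.σ a * c.1) = c.1
    calc _ = ((↑a⁻¹ : F) * a) * C.σ ((↑a⁻¹ : F) * a) * c.1 := by rw [map_mul]; ring
      _ = _ := by simp)
  right_inv c := Subtype.ext (by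
    show (a : F) * C.σ a * ((↑a⁻¹ : F) * C.σ ↑a⁻¹ * c.1) = c.1
    calc _ = ((↑a⁻¹ : F) * a) * C.σ ((↑a⁻¹ : F) * a) * c.1 := by rw [map_mul]; ring
      _ = _ := by simp)
  map_add' c d := Subtype.ext (mul_add _ _ _)

theorem scale_apply (a : Fˣ) (c : C.skew) : ((scale C a c : C.skew) : F) = (a : F) * C.σ a * c.1 := rfl

/-- All non-trivial characters of the skew elements differ by norms. -/
theorem exists_scale {χ χ' : AddChar C.skew ℂ} (hχ : χ ≠ 0) (hχ' : χ' ≠ 0) :
    ∃ a : Fˣ, χ.compAddMonoidHom (scale C a).toAddMonoidHom = χ' := by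
  classical
  obtain ⟨δ, hδ, hδ0⟩ := C.exists_skew_ne
  have hnorm : ∀ d : {d : C.skew // d ≠ 0}, ∃ a : Fˣ, (a : F) * C.σ a = d.1.1 / δ := by
    intro d
    obtain ⟨a, ha⟩ := CfsgLib.Forms.exists_mul_involution_eq C.ne_id C.invol (c := d.1.1 / δ)
      (by rw [map_div₀, C.skew_eq d.1.2, C.skew_eq hδ, neg_div_neg_eq])
    have hd : d.1.1 ≠ 0 := fun h => d.2 (Subtype.ext h)
    exact ⟨Units.mk0 a (fun h => div_ne_zero hd hδ0 (by rw [← ha, h, zero_mul])), ha⟩
  choose A hA using hnorm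
  have hne : ∀ d, χ.compAddMonoidHom (scale C (A d)).toAddMonoidHom ≠ 0 := by
    intro d h
    apply hχ
    ext c
    have := DFunLike.congr_fun h ((scale C (A d)).symm c)
    simpa using this
  let Φ : {d : C.skew // d ≠ 0} → {ψ : AddChar C.skew ℂ // ψ ≠ 0} := fun d => ⟨_, hne d⟩
  have hinj : Function.Injective Φ := by
    intro d d' h
    have h1 : ∀ c, χ (scale C (A d) c) = χ (scale C (A d') c) :=
      fun c => DFunLike.congr_fun (congrArg Subtype.val h) c
    apply Subtype.ext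
    by_contra hdd
    apply hχ
    ext e
    have hk : d.1.1 - d'.1.1 ≠ 0 := sub_ne_zero.mpr fun h => hdd (Subtype.ext h)
    have hmem : e.1 * δ / (d.1.1 - d'.1.1) ∈ C.skew := by
      rw [C.mem_skew, map_div₀, map_mul, map_sub, C.skew_eq d.1.2, C.skew_eq d'.1.2, C.skew_eq hδ, C.skew_eq e.2]
      rw [show -d.1.1 - -d'.1.1 = -(d.1.1 - d'.1.1) by ring, neg_mul_neg, div_neg, add_neg_cancel]
    have h2 := h1 ⟨_, hmem⟩
    have h3 : scale C (A d) ⟨_, hmem⟩ = scale C (A d') ⟨_, hmem⟩ + e := Subtype.ext (by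
      rw [AddSubgroup.coe_add, scale_apply, scale_apply, hA, hA]
      field_simp
      ring)
    rw [h3, AddChar.map_add_eq_mul, mul_eq_left₀ (χ.val_isUnit _).ne_zero] at h2
    rw [h2, AddChar.zero_apply]
  have hcard : Fintype.card {d : C.skew // d ≠ 0} = Fintype.card {ψ : AddChar C.skew ℂ // ψ ≠ 0} := by
    rw [Fintype.card_subtype_compl, Fintype.card_subtype_compl, AddChar.card_eq]
    simp
  obtain ⟨d, hd⟩ := ((Fintype.bijective_iff_injective_and_card Φ).mpr ⟨hinj, hcard⟩).2 ⟨χ', hχ'⟩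
  exact ⟨A d, congrArg Subtype.val hd⟩

section centre

variable {κ : Type*} [Fintype κ] [DecidableEq κ]

/-- The centre of the Heisenberg group as a family. -/
noncomputable def zA (κ : Type*) [Fintype κ] [DecidableEq κ] : AddChar C.skew (suG C (Fin 2 ⊕ κ)) where
  toFun c := uniEl C 0 c.1 (skew_valid C c.2)
  map_zero_eq_one' := uniEl_zero C
  map_add_eq_mul' c d := by
    rw [uniEl_mul]
    exact uniEl_congr C _ _ (add_zero _).symm (by simp [herm_zero_left])

theorem zA_apply (c : C.skew) : zA C κ c = uniEl C 0 c.1 (skew_valid C c.2) := rfl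

theorem torEl_zA (i : κ) (a : Fˣ) (c : C.skew) :
    torEl C i a * zA C κ c * (torEl C i a)⁻¹ = zA C κ (scale C a c) := by
  refine ((isTransv_central C c.2).conj C (torEl C i a)).unique C fun x => ?_
  rw [zA_apply, isTransv_central C (scale C a c).2 x, app_torEl_vE, scale_apply, herm_smul_right, smul_smul]
  ring_nf

theorem uniEl_conj {a w : κ → F} {ca c : F} (ha : ca + C.σ ca + herm C a a = 0)
    (hc : c + C.σ c + herm C w w = 0) :
    uniEl C a ca ha * uniEl C w c hc * (uniEl C a ca ha)⁻¹ =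
      zA C κ ⟨herm C a w - herm C w a, by rw [← conj_herm C a w]; exact C.sub_mem _⟩ * uniEl C w c hc := by
  rw [mul_inv_eq_iff_eq_mul, zA_apply, uniEl_mul, uniEl_mul, uniEl_mul]
  exact uniEl_congr C _ _ (by rw [zero_add, add_comm]) (by simp only [zero_add, herm_zero_right]; ring)

variable {V : Type*} [AddCommGroup V] [Module ℂ V] [FiniteDimensional ℂ V]
  (ρ : Representation ℂ (suG C (Fin 2 ⊕ κ)) V)

theorem commute_proj (χ : AddChar C.skew ℂ) (g : suG C (Fin 2 ⊕ κ)) (hg : ∀ c, Commute g (zA C κ c)) :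
    ρ g * proj (resChar ρ (zA C κ)) χ = proj (resChar ρ (zA C κ)) χ * ρ g := by
  simp only [proj, mul_smul_comm, smul_mul_assoc, Finset.mul_sum, Finset.sum_mul, resChar_apply]
  refine congrArg _ (Finset.sum_congr rfl fun a _ => ?_)
  rw [← map_mul ρ, (hg a).eq, map_mul ρ]

theorem mult_eq [Nonempty κ] {χ χ' : AddChar C.skew ℂ} (hχ : χ ≠ 0) (hχ' : χ' ≠ 0) :
    mult (resChar ρ (zA C κ)) χ' = mult (resChar ρ (zA C κ)) χ := by
  obtain ⟨a, rfl⟩ := exists_scale C hχ hχ'
  exact mult_comp_conj ρ _ (torEl C (Classical.arbitrary κ) a) _ (torEl_zA C _ a) χ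

theorem pow_card_le_mult {χ : AddChar C.skew ℂ} (hχ : χ ≠ 0) (hpos : 0 < mult (resChar ρ (zA C κ)) χ) :
    C.q ^ Fintype.card κ ≤ mult (resChar ρ (zA C κ)) χ := by
  classical
  obtain ⟨d₀, hd₀⟩ : ∃ d, χ d ≠ 1 := by
    by_contra h
    push Not at h
    exact hχ (by ext d; rw [h d, AddChar.zero_apply])
  obtain ⟨s, hs⟩ := C.exists_sub_eq d₀.2
  have hv : ∀ w : κ → F, -(herm C w w * tA C) + C.σ (-(herm C w w * tA C)) + herm C w w = 0 := fun w => by
    rw [map_neg, map_mul, herm_self_fixed]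
    linear_combination (-herm C w w) * tA_spec C
  let u : (κ → F) → suG C (Fin 2 ⊕ κ) := fun w => uniEl C w _ (hv w)
  have h := card_le_mult_sq ρ (zA C κ) χ hpos u (fun i a => uniEl_comm_central C i _ _ (hv i) a.2)
    (fun i j hij => by
      obtain ⟨a, ha⟩ := exists_herm_eq C (sub_ne_zero.mpr hij) s
      have hcn : C.σ (-(herm C j j * tA C)) + C.σ (C.σ (-(herm C j j * tA C))) + herm C (-j) (-j) = 0 := by
        rw [C.invol, herm_neg_left, herm_neg_right, neg_neg]
        linear_combination hv j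
      have hinv : (u j)⁻¹ = uniEl C (-j) _ hcn := by
        refine inv_eq_of_mul_eq_one_right ?_
        rw [uniEl_mul, ← uniEl_zero C]
        exact uniEl_congr C _ _ (add_neg_cancel j) (by rw [herm_neg_left]; linear_combination hv j)
      refine ⟨uniEl C a _ (hv a), d₀, fun c => uniEl_comm_central C a _ _ (hv a) c.2, ?_, hd₀⟩
      rw [hinv, uniEl_mul, uniEl_conj]
      congr 2
      apply Subtype.ext
      show herm C a (-j + i) - herm C (-j + i) a = d₀.1
      rw [← conj_herm C a (-j + i), neg_add_eq_sub, ha, hs])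
  rw [Fintype.card_fun, C.card, ← pow_mul, mul_comm 2, pow_mul] at h
  exact (Nat.pow_le_pow_iff_left two_ne_zero).mp h

theorem finrank_eq [Nonempty κ] {χ : AddChar C.skew ℂ} (hχ : χ ≠ 0) :
    finrank ℂ V = mult (resChar ρ (zA C κ)) 0 + (C.q - 1) * mult (resChar ρ (zA C κ)) χ := by
  classical
  rw [← sum_mult (resChar ρ (zA C κ)), ← Finset.add_sum_erase _ _ (Finset.mem_univ (0 : AddChar C.skew ℂ))]
  congr 1
  rw [Finset.sum_congr rfl (fun χ' h => mult_eq C ρ hχ (Finset.ne_of_mem_erase h)), Finset.sum_const,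
    card_nonzero_chars, smul_eq_mul]

theorem trace_zA [Nonempty κ] {χ : AddChar C.skew ℂ} (hχ : χ ≠ 0) {c : C.skew} (hc : c ≠ 0) :
    LinearMap.trace ℂ V (ρ (zA C κ c)) =
      (mult (resChar ρ (zA C κ)) 0 : ℂ) - (mult (resChar ρ (zA C κ)) χ : ℂ) := by
  classical
  rw [← resChar_apply, trace_map, ← Finset.add_sum_erase _ _ (Finset.mem_univ (0 : AddChar C.skew ℂ)),
    AddChar.zero_apply, one_mul, Finset.sum_congr rfl
    (fun χ' h => by rw [mult_eq C ρ hχ (Finset.ne_of_mem_erase h)]), ← Finset.sum_mul]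
  have h : ∑ χ' ∈ Finset.univ.erase (0 : AddChar C.skew ℂ), χ' c = -1 := by
    rw [Finset.sum_erase_eq_sub (Finset.mem_univ _), AddChar.sum_apply_eq_ite, if_neg hc, AddChar.zero_apply,
      zero_sub]
  rw [h, neg_one_mul, sub_eq_add_neg]

theorem exists_char {c : C.skew} (hc : ρ (zA C κ c) ≠ 1) :
    ∃ χ : AddChar C.skew ℂ, χ ≠ 0 ∧ 0 < mult (resChar ρ (zA C κ)) χ :=
  exists_weight (resChar ρ (zA C κ)) hc

end centre

section nested

variable {μ : Type*} [Fintype μ] [DecidableEq μ]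

theorem app_central_vE (d : C.skew) (s : F) :
    app C (zA C μ d) (s • vE C μ) = s • vE C μ := by
  rw [app_smul, zA_apply, isTransv_central C d.2, herm_vE_vE, mul_zero, zero_smul, add_zero]

theorem blockHom_uniEl {κ : Type*} [Fintype κ] [DecidableEq κ] (l : suG C κ) (w : κ → F) (c : F)
    (hc : c + C.σ c + herm C w w = 0) :
    blockHom C κ l * uniEl C w c hc =
      uniEl C (app C l w) c (by rw [herm_app]; exact hc) * blockHom C κ l := by
  have h1 : app C (blockHom C κ l) (vE C κ) = vE C κ := by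
    rw [app_blockHom]; ext (i | i) <;> simp [vE, app]
  have h2 : ∀ v, app C (blockHom C κ l) (inW v) = inW (app C l v) := fun v => by
    rw [app_blockHom]; ext (i | i) <;> simp [inW, Function.comp_def]
  refine suG_ext C fun x => ?_
  rw [app_mul, app_mul, app_uniEl, app_uniEl]
  have e1 : herm C (app C (blockHom C κ l) x) (vE C κ) = herm C x (vE C κ) := by
    nth_rewrite 1 [← h1]; rw [herm_app]
  have e2 : herm C (app C (blockHom C κ l) x) (inW (app C l w)) = herm C x (inW w) := by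
    rw [← h2, herm_app]
  rw [e1, e2]
  simp only [sub_eq_add_neg, app_add, app_smul, ← neg_smul, h1, h2]

theorem blockHom_comm_zA {κ : Type*} [Fintype κ] [DecidableEq κ] (l : suG C κ) (c : C.skew) :
    Commute (blockHom C κ l) (zA C κ c) := by
  show _ = _
  rw [zA_apply, blockHom_uniEl]
  congr 1
  exact uniEl_congr C _ _ (by simp [app]) rfl

theorem herm_smul_vE (s : F) : herm C (s • vE C μ) (s • vE C μ) = 0 := by
  rw [herm_smul_left, herm_smul_right, herm_vE_vE]; simp

theorem valid_vE (c : C.skew) (s : F) : (c : F) + C.σ c + herm C (s • vE C μ) (s • vE C μ) = 0 := by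
  rw [herm_smul_vE, add_zero]; exact c.2

/-- The abelian family made of the centre, one isotropic direction, and a commuting transvection. -/
noncomputable def zB (μ : Type*) [Fintype μ] [DecidableEq μ] :
    AddChar (C.skew × (F × C.skew)) (suG C (Fin 2 ⊕ (Fin 2 ⊕ μ))) where
  toFun p := uniEl C (p.2.1 • vE C μ) p.1.1 (valid_vE C p.1 p.2.1) * blockHom C (Fin 2 ⊕ μ) (zA C μ p.2.2)
  map_zero_eq_one' := by
    show uniEl C ((0 : F) • vE C μ) ((0 : C.skew) : F) _ * blockHom C (Fin 2 ⊕ μ) (zA C μ 0) = 1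
    rw [AddChar.map_zero_eq_one, map_one, mul_one, ← uniEl_zero C]
    exact uniEl_congr C _ _ (zero_smul _ _) rfl
  map_add_eq_mul' p p' := by
    show uniEl C ((p.2.1 + p'.2.1) • vE C μ) ((p.1 + p'.1 : C.skew) : F) _ *
        blockHom C (Fin 2 ⊕ μ) (zA C μ (p.2.2 + p'.2.2)) = _
    rw [mul_assoc (uniEl C (p.2.1 • vE C μ) _ _), ← mul_assoc (blockHom C _ _) (uniEl C _ _ _), blockHom_uniEl,
      AddChar.map_add_eq_mul, map_mul]
    simp only [← mul_assoc]
    rw [uniEl_mul]
    congr 2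
    refine uniEl_congr C _ _ (by rw [app_central_vE, add_smul]) ?_
    rw [app_central_vE, AddSubgroup.coe_add, herm_smul_left, herm_smul_right, herm_vE_vE]
    simp

theorem zB_apply (c : C.skew) (s : F) (d : C.skew) : zB C μ (c, (s, d)) =
    uniEl C (s • vE C μ) c.1 (valid_vE C c s) * blockHom C (Fin 2 ⊕ μ) (zA C μ d) := rfl

variable {V : Type*} [AddCommGroup V] [Module ℂ V] [FiniteDimensional ℂ V]
  (ρ : Representation ℂ (suG C (Fin 2 ⊕ (Fin 2 ⊕ μ))) V)

/-- The centre inside the family. -/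
def incA : C.skew →+ C.skew × (F × C.skew) := AddMonoidHom.inl _ _

/-- The centre and the isotropic direction inside the family. -/
def incAS : C.skew × F →+ C.skew × (F × C.skew) :=
  (AddMonoidHom.id C.skew).prodMap (AddMonoidHom.inl F C.skew)

theorem resChar_incA : (resChar ρ (zB C μ)).compAddMonoidHom (incA C) = resChar ρ (zA C (Fin 2 ⊕ μ)) := by
  ext1 c
  rw [AddChar.compAddMonoidHom_apply, resChar_apply, resChar_apply]
  congr 1
  show zB C μ (c, ((0 : F), (0 : C.skew))) = _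
  rw [zB_apply, AddChar.map_zero_eq_one, map_one, mul_one, zA_apply]
  exact uniEl_congr C _ _ (zero_smul _ _) rfl

/-- The shear of the pairs. -/
def shear (b : F) : C.skew × F ≃+ C.skew × F where
  toFun p := (p.1 + (⟨b * C.σ p.2 - p.2 * C.σ b, by
    have := C.sub_mem (b * C.σ p.2); rwa [map_mul, C.invol, mul_comm (C.σ b)] at this⟩ : C.skew), p.2)
  invFun p := (p.1 - (⟨b * C.σ p.2 - p.2 * C.σ b, by
    have := C.sub_mem (b * C.σ p.2); rwa [map_mul, C.invol, mul_comm (C.σ b)] at this⟩ : C.skew), p.2)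
  left_inv p := by simp
  right_inv p := by simp
  map_add' p p' := by
    ext
    · simp only [Prod.fst_add, Prod.snd_add, AddSubgroup.coe_add, map_add]
      ring
    · rfl

theorem conj_shear (b : F) (p : C.skew × F) :
    ∃ v, v * (zB C μ).compAddMonoidHom (incAS C) p * v⁻¹ = (zB C μ).compAddMonoidHom (incAS C) (shear C b p) := by
  obtain ⟨c, s⟩ := p
  have hv : -(herm C (b • vF C μ) (b • vF C μ) * tA C) + C.σ (-(herm C (b • vF C μ) (b • vF C μ) * tA C)) +
      herm C (b • vF C μ) (b • vF C μ) = 0 := by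
    rw [map_neg, map_mul, herm_self_fixed]
    linear_combination (-herm C (b • vF C μ) (b • vF C μ)) * tA_spec C
  refine ⟨uniEl C (b • vF C μ) _ hv, ?_⟩
  show uniEl C _ _ hv * zB C μ (c, (s, (0 : C.skew))) * _ = zB C μ ((shear C b (c, s)).1, (s, (0 : C.skew)))
  rw [zB_apply, zB_apply, AddChar.map_zero_eq_one, map_one, mul_one, mul_one, uniEl_conj, zA_apply, uniEl_mul]
  refine uniEl_congr C _ _ (zero_add _) ?_
  simp only [herm_smul_left, herm_smul_right, herm_vE_vF, herm_vF_vE, herm_zero_right, sub_zero]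
  show _ = c.1 + (b * C.σ s - s * C.σ b)
  ring

theorem mult_shear (b : F) (Θ : AddChar (C.skew × F) ℂ) :
    mult ((resChar ρ (zB C μ)).compAddMonoidHom (incAS C)) (Θ.compAddMonoidHom (shear C b).toAddMonoidHom) =
      mult ((resChar ρ (zB C μ)).compAddMonoidHom (incAS C)) Θ := by
  refine mult_comp _ _ (fun p => ?_) Θ
  obtain ⟨v, hv⟩ := conj_shear C (μ := μ) b p
  simp only [AddChar.compAddMonoidHom_apply, resChar_apply] at hv ⊢
  rw [← hv, map_mul ρ, map_mul ρ, LinearMap.trace_mul_comm, ← mul_assoc, ← map_mul ρ, inv_mul_cancel, map_one,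
    one_mul]

theorem mult_pair {χ : AddChar C.skew ℂ} (hχ : χ ≠ 0) :
    ∃ m₀ : ℕ, C.q ^ 2 * m₀ = mult (resChar ρ (zA C (Fin 2 ⊕ μ))) χ ∧
      ∀ Θ ∈ fibre (AddMonoidHom.inl C.skew F) χ,
        mult ((resChar ρ (zB C μ)).compAddMonoidHom (incAS C)) Θ = m₀ := by
  classical
  set β := (resChar ρ (zB C μ)).compAddMonoidHom (incAS C) with hβ
  set Θ₀ : AddChar (C.skew × F) ℂ := χ.compAddMonoidHom (AddMonoidHom.fst _ _) with hΘ₀
  set Φ : F → AddChar (C.skew × F) ℂ := fun b => Θ₀.compAddMonoidHom (shear C b).toAddMonoidHom with hΦ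
  have hmem : ∀ b, Φ b ∈ fibre (AddMonoidHom.inl C.skew F) χ := by
    intro b
    rw [mem_fibre]
    ext c
    show χ (c + _) = χ c
    congr 1
    simp [Subtype.ext_iff]
  have hinj : Function.Injective Φ := by
    intro b b' h
    by_contra hne
    apply hχ
    ext e
    obtain ⟨s', hs'⟩ := C.exists_sub_eq e.2
    have hbb : b - b' ≠ 0 := sub_ne_zero.mpr hne
    set s := C.σ (s' / (b - b')) with hs
    have h1 : Φ b (0, s) = Φ b' (0, s) := by rw [h]
    rw [hΦ, hΘ₀] at h1
    simp only [AddChar.compAddMonoidHom_apply, AddEquiv.coe_toAddMonoidHom, AddMonoidHom.coe_fst] at h1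
    have h2 : (shear C b (0, s)).1 = (shear C b' (0, s)).1 + e := by
      apply Subtype.ext
      show (0 : F) + (b * C.σ s - s * C.σ b) = (0 : F) + (b' * C.σ s - s * C.σ b') + e.1
      rw [hs, C.invol, ← hs', map_div₀, map_sub]
      have hσ : C.σ b - C.σ b' ≠ 0 := by rw [← map_sub]; exact (map_ne_zero C.σ).mpr hbb
      field_simp
      ring
    rw [h2, AddChar.map_add_eq_mul, mul_eq_left₀ (χ.val_isUnit _).ne_zero] at h1
    rw [h1, AddChar.zero_apply]
  have hsurj : ∀ Θ ∈ fibre (AddMonoidHom.inl C.skew F) χ, ∃ b, Φ b = Θ := by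
    have hcard : (fibre (AddMonoidHom.inl C.skew F) χ).card ≤ (Finset.univ.image Φ).card := by
      rw [Finset.card_image_of_injective _ hinj, Finset.card_univ, ← AddChar.card_eq (α := F)]
      refine Finset.card_le_card_of_injOn (fun Θ => Θ.compAddMonoidHom (AddMonoidHom.inr C.skew F))
        (fun _ _ => Finset.mem_univ _) ?_
      intro Θ hΘ Θ' hΘ' hh
      ext ⟨c, s⟩
      have e : ((c, s) : C.skew × F) = AddMonoidHom.inl C.skew F c + AddMonoidHom.inr C.skew F s := by simp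
      rw [e, AddChar.map_add_eq_mul, AddChar.map_add_eq_mul, fibre_apply hΘ, fibre_apply hΘ']
      exact congrArg (χ c * ·) (DFunLike.congr_fun hh s)
    have hsub : Finset.univ.image Φ ⊆ fibre (AddMonoidHom.inl C.skew F) χ := by
      intro Θ hΘ
      obtain ⟨b, -, rfl⟩ := Finset.mem_image.mp hΘ
      exact hmem b
    intro Θ hΘ
    rw [← Finset.eq_of_subset_of_card_le hsub hcard] at hΘ
    obtain ⟨b, -, hb⟩ := Finset.mem_image.mp hΘ
    exact ⟨b, hb⟩
  have hconst : ∀ Θ ∈ fibre (AddMonoidHom.inl C.skew F) χ, mult β Θ = mult β Θ₀ := by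
    intro Θ hΘ
    obtain ⟨b, rfl⟩ := hsurj Θ hΘ
    exact mult_shear C ρ b Θ₀
  refine ⟨mult β Θ₀, ?_, hconst⟩
  have hres : resChar ρ (zA C (Fin 2 ⊕ μ)) = β.compAddMonoidHom (AddMonoidHom.inl C.skew F) := by
    rw [← resChar_incA C ρ]; ext1 c; rfl
  rw [hres, mult_marginal β, Finset.sum_congr rfl hconst, Finset.sum_const, smul_eq_mul]
  congr 1
  rw [show fibre (AddMonoidHom.inl C.skew F) χ = Finset.univ.image Φ from
    Finset.ext fun Θ => ⟨fun hΘ => Finset.mem_image.mpr
      ((hsurj Θ hΘ).imp fun b hb => ⟨Finset.mem_univ _, hb⟩),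
      fun hΘ => by obtain ⟨b, -, rfl⟩ := Finset.mem_image.mp hΘ; exact hmem b⟩,
    Finset.card_image_of_injective _ hinj, Finset.card_univ, C.card]

/-- The trace of a commuting transvection on a non-trivial weight space is at most `m/q`. -/
theorem trace_le {χ : AddChar C.skew ℂ} (hχ : χ ≠ 0) {d : C.skew} (hd : d ≠ 0) :
    C.q * ‖LinearMap.trace ℂ V (ρ (blockHom C (Fin 2 ⊕ μ) (zA C μ d)) *
      proj (resChar ρ (zA C (Fin 2 ⊕ μ))) χ)‖ ≤ mult (resChar ρ (zA C (Fin 2 ⊕ μ))) χ := by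
  classical
  obtain ⟨m₀, hm₀, hΘ⟩ := mult_pair C ρ hχ
  set α := resChar ρ (zB C μ) with hα
  set P := proj (resChar ρ (zA C (Fin 2 ⊕ μ))) χ with hP
  set b : C.skew × (F × C.skew) := (0, (0, d)) with hb
  let j : F →+ C.skew × (F × C.skew) := (AddMonoidHom.inr _ _).comp (AddMonoidHom.inl F C.skew)
  have hT : ∀ p, LinearMap.trace ℂ V (α p * P) = ∑ Ξ ∈ fibre (incA C) χ, Ξ p * (mult α Ξ : ℂ) := fun p => by
    rw [hP, ← resChar_incA C ρ]
    exact trace_mul_proj_marginal α (incA C) χ p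
  have hαb : α b = ρ (blockHom C (Fin 2 ⊕ μ) (zA C μ d)) := by
    rw [hα, resChar_apply, hb, zB_apply]
    congr 1
    rw [show uniEl C ((0 : F) • vE C μ) ((0 : C.skew) : F) (valid_vE C 0 0) = 1 from
      (uniEl_congr C _ _ (zero_smul _ _) rfl).trans (uniEl_zero C), one_mul]
  have hd0 : d.1 ≠ 0 := fun h => hd (Subtype.ext h)
  have key := norm_sq_le α (fibre (incA C) χ) j b m₀ (fun η => ?_) (fun s => ?_)
  · rw [C.card] at key
    rw [← hαb, hT, ← hm₀]
    push_cast
    have h2 : ‖∑ Ξ ∈ fibre (incA C) χ, Ξ b * (mult α Ξ : ℂ)‖ ≤ (C.q : ℝ) * m₀ := by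
      refine (pow_le_pow_iff_left₀ (norm_nonneg _) (by positivity) two_ne_zero).mp ?_
      rw [mul_pow]
      push_cast at key
      exact key
    nlinarith [show (0 : ℝ) ≤ C.q from Nat.cast_nonneg _]
  · set Θ : AddChar (C.skew × F) ℂ :=
      χ.compAddMonoidHom (AddMonoidHom.fst _ _) + η.compAddMonoidHom (AddMonoidHom.snd _ _) with hΘd
    have hΘm : Θ ∈ fibre (AddMonoidHom.inl C.skew F) χ := by
      rw [mem_fibre]; ext c; simp [hΘd, AddChar.add_apply]
    rw [← hΘ Θ hΘm, mult_marginal]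
    refine le_of_eq (Finset.sum_congr ?_ fun _ _ => rfl)
    ext Ξ
    rw [Finset.mem_filter, mem_fibre, mem_fibre]
    constructor
    · rintro ⟨h1, h2⟩
      ext ⟨c, s⟩
      have e : incAS C (c, s) = incA C c + j s := by
        simp [incAS, incA, j]
      rw [AddChar.compAddMonoidHom_apply, e, AddChar.map_add_eq_mul, hΘd, AddChar.add_apply, ← h1, ← h2]
      rfl
    · intro h
      constructor
      · ext c
        have := DFunLike.congr_fun h (c, 0)
        simp [hΘd, AddChar.add_apply, incAS, incA] at this ⊢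
        exact this
      · ext s
        have := DFunLike.congr_fun h (0, s)
        simp [hΘd, AddChar.add_apply, incAS, j] at this ⊢
        exact this
  · -- invariance under conjugation by a Heisenberg element
    rw [← hT, ← hT]
    set β : F := -(s / d.1) with hβ
    set w := β • vF C μ with hw
    have hv : -(herm C w w * tA C) + C.σ (-(herm C w w * tA C)) + herm C w w = 0 := by
      rw [map_neg, map_mul, herm_self_fixed]
      linear_combination (-herm C w w) * tA_spec C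
    set v := uniEl C w _ hv with hvdef
    set c'' : C.skew := ⟨β * C.σ β * d.1, by
      rw [C.mem_skew, map_mul, map_mul, C.invol, C.skew_eq d.2]; ring⟩ with hc''
    have hconj : v * blockHom C (Fin 2 ⊕ μ) (zA C μ d) = zB C μ (c'', (s, d)) * v := by
      rw [zB_apply, mul_assoc, blockHom_uniEl, hvdef, ← mul_assoc, uniEl_mul]
      congr 1
      have hxw : app C (zA C μ d) w = w + (d.1 * β) • vE C μ := by
        rw [zA_apply, isTransv_central C d.2 w, hw, herm_smul_left, herm_vF_vE, mul_one]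
      refine uniEl_congr C _ _ ?_ ?_
      · rw [hxw, hβ]
        match_scalars <;> field_simp
        ring
      · rw [hxw, hw]
        simp only [herm_add_left, herm_smul_left, herm_smul_right, herm_vE_vF, herm_vE_vE, herm_vF_vE, hc'']
        rw [hβ, map_neg, map_div₀, C.skew_eq d.2]
        field_simp
        ring
    have hcomm : ρ v * P = P * ρ v := by
      rw [hP]
      exact commute_proj C ρ χ v fun c => uniEl_comm_central C w _ _ hv c.2
    have hρ : ρ v * α b = α (c'', (s, d)) * ρ v := by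
      rw [hαb, hα, resChar_apply, ← map_mul ρ, ← map_mul ρ, hconj]
    have h1 : LinearMap.trace ℂ V (α b * P) = LinearMap.trace ℂ V (α (c'', (s, d)) * P) := by
      have hinv : ρ v * ρ v⁻¹ = 1 := by rw [← map_mul, mul_inv_cancel, map_one]
      calc LinearMap.trace ℂ V (α b * P) = LinearMap.trace ℂ V (ρ v⁻¹ * (ρ v * α b * P)) := by
            rw [← mul_assoc, ← mul_assoc, ← map_mul, inv_mul_cancel, map_one, one_mul]
        _ = LinearMap.trace ℂ V (ρ v * α b * P * ρ v⁻¹) := LinearMap.trace_mul_comm ..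
        _ = _ := by rw [hρ, mul_assoc (α _) (ρ v) P, hcomm, ← mul_assoc (α _) P, mul_assoc, hinv, mul_one]
    have h2 : α (c'', (s, d)) * P = χ c'' • (α (j s + b) * P) := by
      have e : ((c'', (s, d)) : C.skew × (F × C.skew)) = (j s + b) + incA C c'' := by
        simp [j, hb, incA]
      rw [e, AddChar.map_add_eq_mul, mul_assoc, ← mul_smul_comm]
      congr 1
      rw [hP, ← resChar_incA C ρ]
      exact map_mul_proj ((resChar ρ (zB C μ)).compAddMonoidHom (incA C)) χ c''
    rw [h1, h2, map_smul, norm_smul, norm_apply_eq_one, one_mul]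

theorem trace_blockHom_zA {χ : AddChar C.skew ℂ} (hχ : χ ≠ 0) {d : C.skew} (hd : d ≠ 0) :
    LinearMap.trace ℂ V (ρ (blockHom C (Fin 2 ⊕ μ) (zA C μ d))) =
      (mult (resChar ρ (zA C (Fin 2 ⊕ μ))) 0 : ℂ) - (mult (resChar ρ (zA C (Fin 2 ⊕ μ))) χ : ℂ) := by
  rw [← trace_zA C ρ hχ hd]
  have h := ((isTransv_central C (κ := μ) d.2).blockHom C).conj C (swapEl C μ)
  rw [app_swapEl_inW_vE] at h
  rw [zA_apply C d (κ := Fin 2 ⊕ μ), ← h.unique C (isTransv_central C d.2), map_mul ρ, map_mul ρ,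
    LinearMap.trace_mul_comm, ← mul_assoc, ← map_mul ρ, inv_mul_cancel, map_one, one_mul]
  rfl

theorem re_trace_zero_le {χ : AddChar C.skew ℂ} (hχ : χ ≠ 0) {d : C.skew} (hd : d ≠ 0) :
    C.q * (LinearMap.trace ℂ V (ρ (blockHom C (Fin 2 ⊕ μ) (zA C μ d)) *
      proj (resChar ρ (zA C (Fin 2 ⊕ μ))) 0)).re + mult (resChar ρ (zA C (Fin 2 ⊕ μ))) χ ≤
        C.q * mult (resChar ρ (zA C (Fin 2 ⊕ μ))) 0 := by
  classical
  set α := resChar ρ (zA C (Fin 2 ⊕ μ)) with hα
  set X := ρ (blockHom C (Fin 2 ⊕ μ) (zA C μ d)) with hX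
  set m := mult α χ with hm
  have hsum : LinearMap.trace ℂ V X = LinearMap.trace ℂ V (X * proj α 0) +
      ∑ χ' ∈ Finset.univ.erase (0 : AddChar C.skew ℂ), LinearMap.trace ℂ V (X * proj α χ') := by
    rw [Finset.add_sum_erase (f := fun χ' => LinearMap.trace ℂ V (X * proj α χ')) _ (Finset.mem_univ _),
      ← map_sum, ← Finset.mul_sum, sum_proj, mul_one]
  rw [hX, trace_blockHom_zA C ρ hχ hd, ← hX, ← hα, ← hm] at hsum
  have hbd : ∀ χ' ∈ Finset.univ.erase (0 : AddChar C.skew ℂ),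
      -(m : ℝ) ≤ C.q * (LinearMap.trace ℂ V (X * proj α χ')).re := by
    intro χ' h
    have h1 := trace_le C ρ (Finset.ne_of_mem_erase h) hd
    rw [mult_eq C ρ hχ (Finset.ne_of_mem_erase h), ← hX, ← hα, ← hm] at h1
    have h2 := (abs_le.mp (Complex.abs_re_le_norm (LinearMap.trace ℂ V (X * proj α χ')))).1
    nlinarith [show (0 : ℝ) ≤ C.q from Nat.cast_nonneg _]
  have hsum' := Finset.sum_le_sum hbd
  rw [Finset.sum_const, card_nonzero_chars, nsmul_eq_mul, ← Finset.mul_sum, Nat.cast_sub (by have := C.two_le; omega)]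
    at hsum'
  have hre := congrArg Complex.re hsum
  simp only [Complex.sub_re, Complex.natCast_re, Complex.add_re, Complex.re_sum] at hre
  push_cast at hsum'
  nlinarith

theorem exists_blockHom_ne {χ : AddChar C.skew ℂ} (hχ : χ ≠ 0)
    (hpos : 0 < mult (resChar ρ (zA C (Fin 2 ⊕ μ))) χ) :
    ∃ d, ρ (blockHom C (Fin 2 ⊕ μ) (zA C μ d)) * proj (resChar ρ (zA C (Fin 2 ⊕ μ))) 0 ≠
      proj (resChar ρ (zA C (Fin 2 ⊕ μ))) 0 := by
  obtain ⟨δ, hδ, hδ0⟩ := C.exists_skew_ne
  refine ⟨⟨δ, hδ⟩, fun h => ?_⟩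
  have h1 := re_trace_zero_le C ρ hχ (d := ⟨δ, hδ⟩) (fun h0 => hδ0 (congrArg Subtype.val h0))
  rw [h, trace_proj, Complex.natCast_re] at h1
  have : (0 : ℝ) < mult (resChar ρ (zA C (Fin 2 ⊕ μ))) χ := Nat.cast_pos.mpr hpos
  linarith

theorem mult_zero_ge {χ : AddChar C.skew ℂ} (hχ : χ ≠ 0) :
    (C.q - 1) * mult (resChar ρ (zA C (Fin 2 ⊕ μ))) χ ≤ C.q ^ 2 * mult (resChar ρ (zA C (Fin 2 ⊕ μ))) 0 := by
  classical
  set α := resChar ρ (zA C (Fin 2 ⊕ μ)) with hα
  set T : C.skew → ℂ := fun d =>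
    LinearMap.trace ℂ V (ρ (blockHom C (Fin 2 ⊕ μ) (zA C μ d)) * proj α 0) with hT
  have hnn : 0 ≤ (∑ d, T d).re := by
    have h1 : ∀ d, T d = ∑ Ξ ∈ fibre (incA C) (0 : AddChar C.skew ℂ),
        Ξ (0, (0, d)) * (mult (resChar ρ (zB C μ)) Ξ : ℂ) := by
      intro d
      rw [← trace_mul_proj_marginal, resChar_incA]
      simp only [hT, resChar_apply]
      congr 3
      rw [zB_apply, show uniEl C ((0 : F) • vE C μ) ((0 : C.skew) : F) (valid_vE C 0 0) = 1 from
        (uniEl_congr C _ _ (zero_smul _ _) rfl).trans (uniEl_zero C), one_mul]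
    simp only [h1]
    rw [Finset.sum_comm, Complex.re_sum]
    refine Finset.sum_nonneg fun Ξ _ => ?_
    rw [← Finset.sum_mul]
    have h2 : ∑ d : C.skew, Ξ (0, (0, d)) = ∑ d : C.skew,
        Ξ.compAddMonoidHom ((AddMonoidHom.inr C.skew (F × C.skew)).comp (AddMonoidHom.inr F C.skew)) d := rfl
    rw [h2, AddChar.sum_eq_ite]
    split <;> simp <;> positivity
  have h0 : T 0 = (mult α 0 : ℂ) := by
    simp only [hT, AddChar.map_zero_eq_one, map_one, one_mul, trace_proj]
  rw [← Finset.add_sum_erase _ _ (Finset.mem_univ (0 : C.skew)), h0, Complex.add_re, Complex.natCast_re,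
    Complex.re_sum] at hnn
  have hbd := Finset.sum_le_sum (s := Finset.univ.erase (0 : C.skew))
    (fun d hd => re_trace_zero_le C ρ hχ (Finset.ne_of_mem_erase hd))
  rw [Finset.sum_add_distrib, ← Finset.mul_sum, Finset.sum_const, Finset.sum_const,
    Finset.card_erase_of_mem (Finset.mem_univ _), Finset.card_univ, card_skew', nsmul_eq_mul, nsmul_eq_mul,
    ← hα] at hbd
  have hq : (1 : ℕ) ≤ C.q := by have := C.two_le; omega
  rw [← Nat.cast_le (α := ℝ), Nat.cast_mul, Nat.cast_mul, Nat.cast_sub hq]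
  rw [Nat.cast_sub hq] at hbd
  push_cast at hbd ⊢
  simp only [hT] at hnn hbd
  nlinarith [show (0 : ℝ) ≤ C.q from Nat.cast_nonneg _]

/-- The representation of the smaller unitary group on the trivial weight space. -/
noncomputable def subRep : Representation ℂ (suG C (Fin 2 ⊕ μ))
    (LinearMap.range (proj (resChar ρ (zA C (Fin 2 ⊕ μ))) 0)) where
  toFun l := (ρ (blockHom C (Fin 2 ⊕ μ) l)).restrict fun x hx => by
    obtain ⟨y, rfl⟩ := hx
    refine ⟨ρ (blockHom C (Fin 2 ⊕ μ) l) y, ?_⟩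
    exact (LinearMap.congr_fun (commute_proj C ρ 0 _ (fun c => blockHom_comm_zA C l c)) y).symm
  map_one' := by
    refine LinearMap.ext fun x => Subtype.ext ?_
    show ρ (blockHom C (Fin 2 ⊕ μ) 1) x.1 = x.1
    rw [map_one, map_one]
    rfl
  map_mul' l l' := by
    refine LinearMap.ext fun x => Subtype.ext ?_
    show ρ (blockHom C (Fin 2 ⊕ μ) (l * l')) x.1 =
      ρ (blockHom C (Fin 2 ⊕ μ) l) (ρ (blockHom C (Fin 2 ⊕ μ) l') x.1)
    rw [map_mul, map_mul]
    rfl

theorem finrank_range_zero :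
    finrank ℂ (LinearMap.range (proj (resChar ρ (zA C (Fin 2 ⊕ μ))) 0)) =
      mult (resChar ρ (zA C (Fin 2 ⊕ μ))) 0 := rfl

theorem subRep_ne_one {χ : AddChar C.skew ℂ} (hχ : χ ≠ 0)
    (hpos : 0 < mult (resChar ρ (zA C (Fin 2 ⊕ μ))) χ) : ∃ d, subRep C ρ (zA C μ d) ≠ 1 := by
  obtain ⟨d, hd⟩ := exists_blockHom_ne C ρ hχ hpos
  refine ⟨d, fun h => hd (LinearMap.ext fun v => ?_)⟩
  exact congrArg Subtype.val (LinearMap.congr_fun h ⟨_, LinearMap.mem_range_self _ v⟩)

end nested

universe u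

/-- The lower bound `(q^n - ε)/(q+1)`, `ε = q` or `1` by parity, for representations with non-trivial
transvections. -/
theorem degree_bound (j : ℕ) : ∀ {V : Type u} [AddCommGroup V] [Module ℂ V] [FiniteDimensional ℂ V]
    (ρ : Representation ℂ (suG C (Fin 2 ⊕ Fin j)) V), 1 ≤ j → (∃ c, ρ (zA C (Fin j) c) ≠ 1) →
    C.q ^ (j + 2) ≤ finrank ℂ V * (C.q + 1) + if Odd j then C.q else 1 := by
  induction j using Nat.strong_induction_on with
  | _ j ih =>
  intro V _ _ _ ρ hj hne
  obtain ⟨c, hc⟩ := hne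
  obtain ⟨χ, hχ, hpos⟩ := exists_char C ρ hc
  have : Nonempty (Fin j) := ⟨⟨0, hj⟩⟩
  have hm := pow_card_le_mult C ρ hχ hpos
  rw [Fintype.card_fin] at hm
  have hdim := finrank_eq C ρ hχ
  have hq := C.two_le
  rcases Nat.lt_or_ge j 2 with h1 | h2
  · obtain rfl : j = 1 := by omega
    rw [if_pos odd_one]
    obtain ⟨r, hr⟩ : ∃ r, C.q = r + 1 := ⟨C.q - 1, by omega⟩
    rw [hdim]
    rw [hr] at hm ⊢
    simp only [Nat.add_sub_cancel, pow_one] at hm ⊢
    rw [show (r + 1) ^ (1 + 2) = r * (r + 2) * (r + 1) + (r + 1) by ring]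
    have := Nat.mul_le_mul_left (r * (r + 2)) hm
    generalize mult (resChar ρ (zA C (Fin 1))) 0 = f at *
    generalize mult (resChar ρ (zA C (Fin 1))) χ = m at *
    nlinarith [Nat.zero_le (f * r)]
  obtain ⟨i, rfl⟩ : ∃ i, j = 2 + i := ⟨j - 2, by omega⟩
  let e : Fin 2 ⊕ (Fin 2 ⊕ Fin i) ≃ Fin 2 ⊕ Fin (2 + i) := Equiv.sumCongr (Equiv.refl _) finSumFinEquiv
  let ρ' : Representation ℂ (suG C (Fin 2 ⊕ (Fin 2 ⊕ Fin i))) V := ρ.comp (reindexHom C e)
  have hz : resChar ρ' (zA C (Fin 2 ⊕ Fin i)) = resChar ρ (zA C (Fin (2 + i))) := by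
    ext1 c
    show ρ (reindexHom C e (zA C _ c)) = ρ (zA C _ c)
    congr 1
    refine IsTransv.unique C ((isTransv_central C c.2).reindexHom C e) ?_
    have hv : vE C (Fin 2 ⊕ Fin i) ∘ e.symm = vE C (Fin (2 + i)) := by
      ext (k | k) <;> simp [e, vE]
    rw [hv]
    exact isTransv_central C c.2
  rw [← hz] at hm hdim hpos
  set f := mult (resChar ρ' (zA C (Fin 2 ⊕ Fin i))) 0 with hf
  set m := mult (resChar ρ' (zA C (Fin 2 ⊕ Fin i))) χ with hmdef
  obtain ⟨r, hr⟩ : ∃ r, C.q = r + 1 := ⟨C.q - 1, by omega⟩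
  rcases Nat.eq_zero_or_pos i with rfl | hi
  · rw [if_neg (by decide)]
    have h := mult_zero_ge C ρ' hχ
    rw [← hf, ← hmdef] at h
    have hfr : r ≤ f := by
      have h3 : C.q ^ 2 * r ≤ C.q ^ 2 * f := by
        refine le_trans ?_ h
        rw [hr, Nat.add_sub_cancel, mul_comm _ r]
        exact Nat.mul_le_mul_left r (by rw [← hr]; simpa using hm)
      exact Nat.le_of_mul_le_mul_left h3 (by positivity)
    rw [hdim]
    rw [hr] at hm ⊢
    simp only [Nat.add_sub_cancel, Nat.add_zero] at hm ⊢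
    rw [show (r + 1) ^ (2 + 2) = r * (r + 2) * (r + 1) ^ 2 + r * (r + 2) + 1 by ring]
    have := Nat.mul_le_mul_left (r * (r + 2)) hm
    have := Nat.mul_le_mul_right (r + 2) hfr
    nlinarith
  · have hsub := ih i (by omega) (subRep C ρ') hi (subRep_ne_one C ρ' hχ hpos)
    rw [finrank_range_zero, ← hf] at hsub
    have hodd : (if Odd (2 + i) then C.q else 1) = if Odd i then C.q else 1 := by
      have h : Odd (2 + i) ↔ Odd i := by rw [Nat.odd_iff, Nat.odd_iff]; omega
      rw [if_congr h rfl rfl]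
    rw [hodd]
    generalize (if Odd i then C.q else 1) = ε at *
    rw [hdim]
    rw [hr] at hm hsub ⊢
    rw [Nat.add_sub_cancel]
    have h5 : r * (r + 2) * (r + 1) ^ (2 + i) ≤ r * m * (r + 1 + 1) := by
      have := Nat.mul_le_mul_left (r * (r + 2)) hm
      nlinarith
    rw [show 2 + i + 2 = (2 + i) + 2 from rfl, pow_add]
    rw [add_comm i 2] at hsub
    nlinarith

/-- The bound for irreducible representations of `Cfsg.SU`. -/
theorem degree_bound_SU (j : ℕ) (hj : 1 ≤ j) (h32 : ¬ (2 + j = 3 ∧ C.q = 2)) {V : Type u} [AddCommGroup V]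
    [Module ℂ V] [FiniteDimensional ℂ V] (ρ : Representation ℂ (Cfsg.SU (2 + j) F C.q) V)
    (hρ : ρ.IsIrreducible) (hk : 2 ≤ finrank ℂ V) :
    C.q ^ (2 + j) ≤ finrank ℂ V * (C.q + 1) + if Odd j then C.q else 1 := by
  let E := MulEquiv.subgroupCongr (suG_fin_eq C (2 + j))
  let Φ := E.toMonoidHom.comp (reindexHom C (finSumFinEquiv : Fin 2 ⊕ Fin j ≃ Fin (2 + j)))
  rw [add_comm 2 j]
  refine degree_bound C j (ρ.comp Φ) hj ?_
  by_contra h
  push Not at h
  obtain ⟨g, hg⟩ := exists_ne_one ρ hρ hk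
  apply hg
  have : Nonempty (Fin j) := ⟨⟨0, hj⟩⟩
  have htop := transvs_eq_top C (ι := Fin 2 ⊕ Fin j) (by simpa using h32)
  have hker : transvs C (Fin 2 ⊕ Fin j) ≤ (ρ.comp Φ).ker := by
    rw [transvs, Subgroup.closure_le]
    rintro x ⟨v, c, hv, hc, hx⟩
    show ρ.comp Φ x = 1
    by_cases hv0 : v = 0
    · have : x = 1 := suG_ext C fun y => by rw [hx y, hv0, smul_zero, add_zero, app_one]
      rw [this, map_one]
    obtain ⟨k, hkk⟩ := exists_conj_central C hx hv hv0 hc
    have h1 := h ⟨c, hc⟩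
    rw [zA_apply, ← hkk, map_mul, map_mul] at h1
    calc ρ.comp Φ x = ρ.comp Φ k⁻¹ * (ρ.comp Φ k * ρ.comp Φ x * ρ.comp Φ k⁻¹) * ρ.comp Φ k := by
          simp only [← map_mul]
          congr 1
          group
      _ = _ := by rw [h1, mul_one, ← map_mul, inv_mul_cancel, map_one]
  rw [htop] at hker
  have hsurj : Φ ((reindexHom C finSumFinEquiv.symm) (E.symm g)) = g := by
    show E (reindexHom C finSumFinEquiv (reindexHom C finSumFinEquiv.symm (E.symm g))) = g
    conv_rhs => rw [← E.apply_symm_apply g]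
    congr 1
    refine suG_ext C fun x => ?_
    rw [app_reindexHom, app_reindexHom]
    simp [Function.comp_def]
  have := hker (Subgroup.mem_top ((reindexHom C finSumFinEquiv.symm) (E.symm g)))
  rw [← hsurj]
  exact this

end CfsgLib.RepBounds.Unit
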