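import Cfsg.Prelude.Def_Classical
import Cfsg.Agent.Forms.Diagonal

/-!
# Unitary groups on an arbitrary finite index set: root elements, torus, embeddings

`suG C ι` is `SU` of the standard Hermitian form on `ι → F`. On `Fin 2 ⊕ κ` there are an isotropic pair
`vE`, `vF`, the Heisenberg elements `uniEl w c` and torus elements `torEl`.
-/

set_option autoImplicit false

namespace CfsgLib.RepBounds.Unit

open Matrix

/-- A finite field with `q²` elements and its involution `x ↦ x^q`. -/
structure ConjField (F : Type*) [Field F] [Fintype F] where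
  /-- the involution -/
  σ : F →+* F
  /-- the square root of the order -/
  q : ℕ
  pow : ∀ x, σ x = x ^ q
  card : Fintype.card F = q ^ 2

variable {F : Type*} [Field F] [Fintype F]

/-- Existence of the involution. -/
theorem exists_conjField (q : ℕ) (hF : Fintype.card F = q ^ 2) : ∃ C : ConjField F, C.q = q := by
  obtain ⟨p, hpc⟩ := CharP.exists F
  obtain ⟨k, hp, hk⟩ := FiniteField.card F p
  have : Fact p.Prime := ⟨hp⟩
  obtain ⟨j, -, hj⟩ : ∃ j ≤ (k : ℕ), q = p ^ j :=
    (Nat.dvd_prime_pow hp).mp (by rw [← hk, hF]; exact dvd_pow_self q two_ne_zero)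
  exact ⟨⟨iterateFrobenius F p j, q, fun x => by rw [hj]; rfl, hF⟩, rfl⟩

namespace ConjField

variable (C : ConjField F)

theorem two_le : 2 ≤ C.q := by
  have h := Fintype.one_lt_card (α := F)
  rw [C.card] at h
  by_contra hlt
  push Not at hlt
  interval_cases C.q <;> simp at h

theorem invol (x : F) : C.σ (C.σ x) = x := by
  rw [C.pow, C.pow, ← pow_mul, ← pow_two, ← C.card, FiniteField.pow_card]

theorem ne_id : C.σ ≠ RingHom.id F := by
  classical
  intro h
  have hroot : (Finset.univ : Finset F) ⊆ (Polynomial.X ^ C.q - Polynomial.X : Polynomial F).roots.toFinset := by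
    intro x _
    rw [Multiset.mem_toFinset, Polynomial.mem_roots (FiniteField.X_pow_card_sub_X_ne_zero F C.two_le),
      Polynomial.IsRoot, Polynomial.eval_sub, Polynomial.eval_pow, Polynomial.eval_X, ← C.pow, h]
    simp
  have h1 := ((Finset.card_le_card hroot).trans (Multiset.toFinset_card_le _)).trans
    (Polynomial.card_roots' _)
  rw [Finset.card_univ, C.card, FiniteField.X_pow_card_sub_X_natDegree_eq F C.two_le] at h1
  have := C.two_le
  nlinarith

theorem exists_trace_one : ∃ t : F, t + C.σ t = 1 :=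
  ⟨(CfsgLib.Forms.exists_add_involution_eq C.ne_id C.invol (map_one C.σ)).choose,
    (CfsgLib.Forms.exists_add_involution_eq C.ne_id C.invol (map_one C.σ)).choose_spec⟩

theorem exists_norm_neg_one : ∃ a : F, a * C.σ a = -1 :=
  CfsgLib.Forms.exists_mul_involution_eq C.ne_id C.invol (by rw [map_neg, map_one])

/-- The elements of trace zero. -/
def skew : AddSubgroup F where
  carrier := {c | c + C.σ c = 0}
  zero_mem' := by simp
  add_mem' {a b} ha hb := by
    simp only [Set.mem_setOf_eq] at ha hb ⊢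
    rw [map_add]; linear_combination ha + hb
  neg_mem' {a} ha := by
    simp only [Set.mem_setOf_eq] at ha ⊢
    rw [map_neg]; linear_combination -ha

theorem mem_skew {c : F} : c ∈ C.skew ↔ c + C.σ c = 0 := Iff.rfl

theorem skew_eq {c : F} (hc : c ∈ C.skew) : C.σ c = -c := by
  rw [C.mem_skew] at hc; linear_combination hc

theorem sub_mem (s : F) : s - C.σ s ∈ C.skew := by
  rw [C.mem_skew, map_sub, C.invol]; ring

theorem exists_sub_eq {c : F} (hc : c ∈ C.skew) : ∃ s, s - C.σ s = c := by
  obtain ⟨t, ht⟩ := C.exists_trace_one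
  refine ⟨c * t, ?_⟩
  rw [map_mul, C.skew_eq hc]
  linear_combination c * ht

theorem card_skew : Nat.card C.skew = C.q := by
  classical
  let φ : F →+ F :=
    { toFun := fun x => x - C.σ x, map_zero' := by simp, map_add' := fun a b => by rw [map_add]; ring }
  have hr : φ.range = C.skew := by
    ext c
    exact ⟨fun ⟨s, hs⟩ => hs ▸ C.sub_mem s, fun hc => C.exists_sub_eq hc⟩
  have hmul : Nat.card φ.ker * Nat.card C.skew = C.q ^ 2 := by
    rw [← C.card, ← Nat.card_eq_fintype_card, ← hr,
      AddSubgroup.card_eq_card_quotient_mul_card_addSubgroup φ.ker,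
      Nat.card_congr (QuotientAddGroup.quotientKerEquivRange φ).toEquiv, mul_comm]
  have hk : Nat.card φ.ker ≤ C.q := by
    have hsub : (Finset.univ : Finset F).filter (· ∈ φ.ker) ⊆
        (Polynomial.X ^ C.q - Polynomial.X : Polynomial F).roots.toFinset := by
      intro x hx
      rw [Finset.mem_filter] at hx
      have hx' : x - C.σ x = 0 := hx.2
      rw [Multiset.mem_toFinset, Polynomial.mem_roots (FiniteField.X_pow_card_sub_X_ne_zero F C.two_le),
        Polynomial.IsRoot, Polynomial.eval_sub, Polynomial.eval_pow, Polynomial.eval_X, ← C.pow]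
      linear_combination -hx'
    have h1 := ((Finset.card_le_card hsub).trans (Multiset.toFinset_card_le _)).trans
      (Polynomial.card_roots' _)
    rw [FiniteField.X_pow_card_sub_X_natDegree_eq F C.two_le, ← Fintype.card_subtype] at h1
    rwa [Nat.card_eq_fintype_card]
  have hA : Nat.card C.skew ≤ C.q := by
    have hne : (Polynomial.X ^ C.q + Polynomial.X : Polynomial F).natDegree = C.q := by
      rw [Polynomial.natDegree_add_eq_left_of_natDegree_lt] <;>
        simp [Polynomial.natDegree_X_pow, C.two_le, (show 1 < C.q from C.two_le)]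
    have hne0 : (Polynomial.X ^ C.q + Polynomial.X : Polynomial F) ≠ 0 := fun h => by
      rw [h, Polynomial.natDegree_zero] at hne
      have := C.two_le
      omega
    have hsub : (Finset.univ : Finset F).filter (· ∈ C.skew) ⊆
        (Polynomial.X ^ C.q + Polynomial.X : Polynomial F).roots.toFinset := by
      intro x hx
      rw [Finset.mem_filter] at hx
      have hx' : x + C.σ x = 0 := hx.2
      rw [Multiset.mem_toFinset, Polynomial.mem_roots hne0, Polynomial.IsRoot, Polynomial.eval_add,
        Polynomial.eval_pow, Polynomial.eval_X, ← C.pow]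
      linear_combination hx'
    have h1 := ((Finset.card_le_card hsub).trans (Multiset.toFinset_card_le _)).trans
      (Polynomial.card_roots' _)
    rw [hne, ← Fintype.card_subtype] at h1
    rwa [Nat.card_eq_fintype_card]
  have := C.two_le
  nlinarith

end ConjField

variable (C : ConjField F)

/-- The standard Hermitian form. -/
def herm {ι : Type*} [Fintype ι] (u v : ι → F) : F := ∑ i, u i * C.σ (v i)

section formlemmas

variable {ι : Type*} [Fintype ι]

theorem herm_add_left (u u' v : ι → F) : herm C (u + u') v = herm C u v + herm C u' v := by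
  simp [herm, add_mul, Finset.sum_add_distrib]

theorem herm_add_right (u v v' : ι → F) : herm C u (v + v') = herm C u v + herm C u v' := by
  simp [herm, mul_add, Finset.sum_add_distrib]

theorem herm_smul_left (a : F) (u v : ι → F) : herm C (a • u) v = a * herm C u v := by
  simp [herm, Finset.mul_sum, mul_assoc]

theorem herm_smul_right (a : F) (u v : ι → F) : herm C u (a • v) = C.σ a * herm C u v := by
  simp [herm, Finset.mul_sum, mul_left_comm]

theorem herm_sub_left (u u' v : ι → F) : herm C (u - u') v = herm C u v - herm C u' v := by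
  simp [herm, sub_mul, Finset.sum_sub_distrib]

theorem herm_sub_right (u v v' : ι → F) : herm C u (v - v') = herm C u v - herm C u v' := by
  simp [herm, mul_sub, Finset.sum_sub_distrib]

theorem herm_neg_left (u v : ι → F) : herm C (-u) v = -herm C u v := by simp [herm]

theorem herm_zero_left (v : ι → F) : herm C 0 v = 0 := by simp [herm]

theorem herm_zero_right (u : ι → F) : herm C u 0 = 0 := by simp [herm]

theorem conj_herm (u v : ι → F) : C.σ (herm C u v) = herm C v u := by
  simp [herm, C.invol, mul_comm]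

theorem herm_self_fixed (u : ι → F) : C.σ (herm C u u) = herm C u u := conj_herm C u u

theorem exists_herm_eq [DecidableEq ι] {u : ι → F} (hu : u ≠ 0) (s : F) : ∃ v, herm C v u = s := by
  obtain ⟨i, hi⟩ := Function.ne_iff.mp hu
  have hi' : C.σ (u i) ≠ 0 := (map_ne_zero C.σ).mpr hi
  refine ⟨Pi.single i (s / C.σ (u i)), ?_⟩
  simp [herm, Pi.single_apply, hi']

theorem herm_sumElim {κ : Type*} [Fintype κ] (a a' : ι → F) (b b' : κ → F) :
    herm C (Sum.elim a b) (Sum.elim a' b') = herm C a a' + herm C b b' := by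
  simp [herm, Fintype.sum_sum_type]

end formlemmas

variable (ι : Type*) [Fintype ι] [DecidableEq ι]

/-- `SU` of the standard Hermitian form on `ι → F`. -/
def suG : Subgroup (SpecialLinearGroup ι F) where
  carrier := {g | ∀ u v, herm C (g.1 *ᵥ u) (g.1 *ᵥ v) = herm C u v}
  mul_mem' {a b} ha hb := by
    intro u v
    show herm C ((a.1 * b.1) *ᵥ u) ((a.1 * b.1) *ᵥ v) = _
    rw [← Matrix.mulVec_mulVec, ← Matrix.mulVec_mulVec, ha, hb]
  one_mem' := by intro u v; simp
  inv_mem' {a} ha := by
    intro u v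
    have h := ha (a⁻¹.1 *ᵥ u) (a⁻¹.1 *ᵥ v)
    have hh : a.1 * (a⁻¹).1 = 1 := congrArg Subtype.val (mul_inv_cancel a)
    rw [Matrix.mulVec_mulVec, Matrix.mulVec_mulVec, hh, Matrix.one_mulVec, Matrix.one_mulVec] at h
    exact h.symm

variable {ι}

/-- The underlying map of an element. -/
def app (g : suG C ι) (x : ι → F) : ι → F := g.1.1 *ᵥ x

theorem app_mul (g h : suG C ι) (x : ι → F) : app C (g * h) x = app C g (app C h x) :=
  (Matrix.mulVec_mulVec _ _ _).symm

theorem app_one (x : ι → F) : app C (1 : suG C ι) x = x := Matrix.one_mulVec x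

theorem app_add (g : suG C ι) (x y : ι → F) : app C g (x + y) = app C g x + app C g y :=
  Matrix.mulVec_add _ _ _

theorem app_smul (g : suG C ι) (a : F) (x : ι → F) : app C g (a • x) = a • app C g x :=
  Matrix.mulVec_smul _ _ _

theorem herm_app (g : suG C ι) (x y : ι → F) : herm C (app C g x) (app C g y) = herm C x y := g.2 x y

theorem suG_ext {g h : suG C ι} (e : ∀ x, app C g x = app C h x) : g = h :=
  Subtype.ext (Subtype.ext (Matrix.ext_iff_mulVec.2 e))

theorem app_inv_app (g : suG C ι) (x : ι → F) : app C g⁻¹ (app C g x) = x := by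
  rw [← app_mul, inv_mul_cancel, app_one]

theorem app_app_inv (g : suG C ι) (x : ι → F) : app C g (app C g⁻¹ x) = x := by
  rw [← app_mul, mul_inv_cancel, app_one]

theorem herm_app_left (g : suG C ι) (x y : ι → F) : herm C (app C g⁻¹ x) y = herm C x (app C g y) := by
  rw [← herm_app C g (app C g⁻¹ x) y, app_app_inv]

/-- A transvection `x ↦ x + c h(x,v) v`. -/
def IsTransv (g : suG C ι) (v : ι → F) (c : F) : Prop :=
  ∀ x, app C g x = x + (c * herm C x v) • v

theorem IsTransv.unique {g g' : suG C ι} {v : ι → F} {c : F} (h : IsTransv C g v c)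
    (h' : IsTransv C g' v c) : g = g' := suG_ext C fun x => (h x).trans (h' x).symm

theorem IsTransv.conj {g : suG C ι} {v : ι → F} {c : F} (h : IsTransv C g v c) (k : suG C ι) :
    IsTransv C (k * g * k⁻¹) (app C k v) c := by
  intro x
  rw [app_mul, app_mul, h, app_add, app_smul, app_app_inv, herm_app_left]

/-- A unipotent matrix has determinant one. -/
theorem det_eq_one_of_cube (M : Matrix ι ι F) (h : (M - 1) ^ 3 = 0) : M.det = 1 := by
  obtain ⟨p, hpc⟩ := CharP.exists F
  have hp : Fact p.Prime := ⟨(CharP.char_is_prime_or_zero F p).resolve_right (CharP.char_ne_zero_of_finite F p)⟩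
  rcases isEmpty_or_nonempty ι with hι | hι
  · exact Matrix.det_isEmpty
  have : CharP (Matrix ι ι F) p :=
    charP_of_injective_algebraMap (algebraMap F (Matrix ι ι F)).injective p
  have h3 : 3 ≤ p ^ 2 := by nlinarith [hp.out.two_le]
  have h1 := pow_eq_zero_of_le h3 h
  rw [sub_pow_char_pow_of_commute p _ (Commute.one_right M), one_pow, sub_eq_zero] at h1
  have h2 : M.det ^ (p ^ 2) = 1 := by rw [← Matrix.det_pow, h1, Matrix.det_one]
  exact iterateFrobenius_inj F p 2 (by simp [iterateFrobenius_def, h2])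

section heisenberg

variable (κ : Type*) [Fintype κ] [DecidableEq κ]

/-- A chosen element of norm `-1`. -/
noncomputable def nA : F := C.exists_norm_neg_one.choose

/-- A chosen element of trace `1`. -/
noncomputable def tA : F := C.exists_trace_one.choose

theorem nA_spec : nA C * C.σ (nA C) = -1 := C.exists_norm_neg_one.choose_spec

theorem tA_spec : tA C + C.σ (tA C) = 1 := C.exists_trace_one.choose_spec

/-- The isotropic vector `e`. -/
noncomputable def vE : Fin 2 ⊕ κ → F := Sum.elim ![1, nA C] 0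

/-- The isotropic vector `f`. -/
noncomputable def vF : Fin 2 ⊕ κ → F := Sum.elim ![1 - tA C, -(tA C * nA C)] 0

variable {κ}

/-- The embedding of the orthogonal complement. -/
def inW (w : κ → F) : Fin 2 ⊕ κ → F := Sum.elim 0 w

theorem herm_vE_vE : herm C (vE C κ) (vE C κ) = 0 := by
  simp [herm, vE, Fintype.sum_sum_type, nA_spec]

theorem herm_vE_vF : herm C (vE C κ) (vF C κ) = 1 := by
  simp [herm, vE, vF, Fintype.sum_sum_type, map_sub, map_neg, map_mul]
  linear_combination (-C.σ (tA C)) * nA_spec C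

theorem herm_vF_vE : herm C (vF C κ) (vE C κ) = 1 := by
  rw [← conj_herm, herm_vE_vF, map_one]

theorem herm_vF_vF : herm C (vF C κ) (vF C κ) = 0 := by
  simp [herm, vF, Fintype.sum_sum_type, map_sub, map_neg, map_mul]
  linear_combination (tA C * C.σ (tA C)) * nA_spec C - tA_spec C

theorem herm_inW (w w' : κ → F) : herm C (inW w) (inW w') = herm C w w' := by
  simp [inW, herm_sumElim, herm_zero_left]

theorem herm_inW_vE (w : κ → F) : herm C (inW w) (vE C κ) = 0 := by
  simp [inW, vE, herm_sumElim, herm_zero_left, herm_zero_right]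

theorem herm_vE_inW (w : κ → F) : herm C (vE C κ) (inW w) = 0 := by
  rw [← conj_herm, herm_inW_vE, map_zero]

theorem herm_inW_vF (w : κ → F) : herm C (inW w) (vF C κ) = 0 := by
  simp [inW, vF, herm_sumElim, herm_zero_left, herm_zero_right]

theorem herm_vF_inW (w : κ → F) : herm C (vF C κ) (inW w) = 0 := by
  rw [← conj_herm, herm_inW_vF, map_zero]

theorem inW_add (w w' : κ → F) : inW (w + w') = inW w + inW w' := by
  ext (i | i) <;> simp [inW]

theorem inW_smul (a : F) (w : κ → F) : inW (a • w) = a • inW w := by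
  ext (i | i) <;> simp [inW]

theorem inW_zero : inW (0 : κ → F) = 0 := by
  ext (i | i) <;> simp [inW]

/-- The map of a Heisenberg element. -/
noncomputable def uniMap (w : κ → F) (c : F) : (Fin 2 ⊕ κ → F) →ₗ[F] (Fin 2 ⊕ κ → F) where
  toFun x := x + herm C x (vE C κ) • (inW w + c • vE C κ) - herm C x (inW w) • vE C κ
  map_add' x y := by simp only [herm_add_left, add_smul]; abel
  map_smul' a x := by
    simp only [herm_smul_left, RingHom.id_apply]
    module

theorem uniMap_apply (w : κ → F) (c : F) (x : Fin 2 ⊕ κ → F) :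
    uniMap C w c x = x + herm C x (vE C κ) • (inW w + c • vE C κ) - herm C x (inW w) • vE C κ := rfl

theorem uniMap_det (w : κ → F) (c : F) : (LinearMap.toMatrix' (uniMap C w c)).det = 1 := by
  refine det_eq_one_of_cube _ (Matrix.ext_iff_mulVec.2 fun x => ?_)
  have hN : ∀ y, (LinearMap.toMatrix' (uniMap C w c) - 1) *ᵥ y =
      herm C y (vE C κ) • (inW w + c • vE C κ) - herm C y (inW w) • vE C κ := fun y => by
    rw [Matrix.sub_mulVec, LinearMap.toMatrix'_mulVec, Matrix.one_mulVec, uniMap_apply]
    abel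
  rw [pow_succ, pow_two, ← Matrix.mulVec_mulVec, ← Matrix.mulVec_mulVec, hN, hN, hN, Matrix.zero_mulVec]
  simp [herm_add_left, herm_sub_left, herm_neg_left, herm_zero_left, herm_smul_left, herm_vE_vE, herm_inW_vE, herm_vE_inW]

/-- The Heisenberg element `u(w, c)`; meaningful when `c + σ c + h(w,w) = 0`. -/
noncomputable def uniEl (w : κ → F) (c : F) (hc : c + C.σ c + herm C w w = 0) : suG C (Fin 2 ⊕ κ) :=
  ⟨⟨LinearMap.toMatrix' (uniMap C w c), uniMap_det C w c⟩, fun x y => by
    show herm C (LinearMap.toMatrix' (uniMap C w c) *ᵥ x) (LinearMap.toMatrix' (uniMap C w c) *ᵥ y) = _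
    simp only [LinearMap.toMatrix'_mulVec, uniMap_apply, herm_add_left, herm_sub_left, herm_smul_left,
      herm_add_right, herm_sub_right, herm_smul_right, herm_vE_vE, herm_inW_vE, herm_vE_inW, herm_inW]
    rw [← conj_herm C y (inW w), ← conj_herm C y (vE C κ)]
    linear_combination (herm C x (vE C κ) * C.σ (herm C y (vE C κ))) * hc⟩

theorem app_uniEl (w : κ → F) (c : F) (hc : c + C.σ c + herm C w w = 0) (x : Fin 2 ⊕ κ → F) :
    app C (uniEl C w c hc) x =
      x + herm C x (vE C κ) • (inW w + c • vE C κ) - herm C x (inW w) • vE C κ :=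
  (LinearMap.toMatrix'_mulVec _ _).trans (uniMap_apply C w c x)

theorem uniEl_congr {w w' : κ → F} {c c' : F} (hc : c + C.σ c + herm C w w = 0)
    (hc' : c' + C.σ c' + herm C w' w' = 0) (hw : w = w') (hcc : c = c') :
    uniEl C w c hc = uniEl C w' c' hc' := by subst hw hcc; rfl

theorem uniEl_valid_mul {w w' : κ → F} {c c' : F} (hc : c + C.σ c + herm C w w = 0)
    (hc' : c' + C.σ c' + herm C w' w' = 0) :
    (c + c' - herm C w' w) + C.σ (c + c' - herm C w' w) + herm C (w + w') (w + w') = 0 := by
  rw [map_sub, map_add, conj_herm, herm_add_left, herm_add_right, herm_add_right]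
  linear_combination hc + hc'

theorem uniEl_mul {w w' : κ → F} {c c' : F} (hc : c + C.σ c + herm C w w = 0)
    (hc' : c' + C.σ c' + herm C w' w' = 0) :
    uniEl C w c hc * uniEl C w' c' hc' =
      uniEl C (w + w') (c + c' - herm C w' w) (uniEl_valid_mul C hc hc') := by
  refine suG_ext C fun x => ?_
  simp only [app_mul, app_uniEl, herm_add_left, herm_sub_left, herm_smul_left, herm_vE_vE, herm_inW_vE,
    herm_vE_inW, herm_inW, inW_add, herm_add_right]
  module

theorem uniEl_zero : uniEl C (0 : κ → F) 0 (by simp [herm_zero_left]) = 1 :=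
  suG_ext C fun x => by simp [app_uniEl, app_one, inW_zero, herm_zero_right]

theorem skew_valid {c : F} (hc : c ∈ C.skew) : c + C.σ c + herm C (0 : κ → F) 0 = 0 := by
  rw [herm_zero_left, add_zero]; exact hc

theorem uniEl_comm_central (w : κ → F) (c d : F) (hc : c + C.σ c + herm C w w = 0) (hd : d ∈ C.skew) :
    Commute (uniEl C w c hc) (uniEl C 0 d (skew_valid C hd)) := by
  show _ = _
  rw [uniEl_mul, uniEl_mul]
  exact uniEl_congr C _ _ (by simp) (by simp [herm_zero_left, herm_zero_right]; ring)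

theorem isTransv_central {d : F} (hd : d ∈ C.skew) :
    IsTransv C (uniEl C (0 : κ → F) d (skew_valid C hd)) (vE C κ) d := fun x => by
  simp [app_uniEl, inW_zero, herm_zero_right, smul_smul, mul_comm]

/-- Three columns used for the torus. -/
noncomputable def torP (i₀ : κ) : Matrix (Fin 2 ⊕ κ) (Fin 3) F :=
  Matrix.of fun i j => ![vE C κ i, vF C κ i, inW (Pi.single i₀ 1) i] j

/-- Three rows used for the torus. -/
noncomputable def torR (i₀ : κ) : Matrix (Fin 3) (Fin 2 ⊕ κ) F :=
  Matrix.of fun j i => C.σ (![vF C κ i, vE C κ i, inW (Pi.single i₀ 1) i] j)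

/-- The torus matrix. -/
noncomputable def torMat (i₀ : κ) (a : Fˣ) : Matrix (Fin 2 ⊕ κ) (Fin 2 ⊕ κ) F :=
  1 + torP C i₀ * (Matrix.diagonal ![(a : F) - 1, (C.σ a)⁻¹ - 1, C.σ a / a - 1] * torR C i₀)

theorem torR_mulVec (i₀ : κ) (x : Fin 2 ⊕ κ → F) :
    torR C i₀ *ᵥ x = ![herm C x (vF C κ), herm C x (vE C κ), herm C x (inW (Pi.single i₀ 1))] := by
  ext j
  fin_cases j <;> simp [torR, Matrix.mulVec, dotProduct, herm, mul_comm]

theorem torP_mulVec (i₀ : κ) (y : Fin 3 → F) :
    torP C i₀ *ᵥ y = y 0 • vE C κ + y 1 • vF C κ + y 2 • inW (Pi.single i₀ 1) := by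
  ext i
  simp [torP, Matrix.mulVec, dotProduct, Fin.sum_univ_three, mul_comm]

theorem torMat_mulVec (i₀ : κ) (a : Fˣ) (x : Fin 2 ⊕ κ → F) :
    torMat C i₀ a *ᵥ x = x + (((a : F) - 1) * herm C x (vF C κ)) • vE C κ +
      (((C.σ a)⁻¹ - 1) * herm C x (vE C κ)) • vF C κ +
      ((C.σ a / a - 1) * herm C x (inW (Pi.single i₀ 1))) • inW (Pi.single i₀ 1) := by
  rw [torMat, Matrix.add_mulVec, Matrix.one_mulVec, ← Matrix.mulVec_mulVec, ← Matrix.mulVec_mulVec,
    torP_mulVec, torR_mulVec]
  simp [Matrix.mulVec_diagonal, add_assoc]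

theorem torMat_det (i₀ : κ) (a : Fˣ) : (torMat C i₀ a).det = 1 := by
  have hRP : torR C i₀ * torP C i₀ = 1 := by
    refine Matrix.ext_iff_mulVec.2 fun y => ?_
    rw [← Matrix.mulVec_mulVec, torP_mulVec, torR_mulVec, Matrix.one_mulVec]
    ext j
    fin_cases j <;>
      simp [herm_add_left, herm_smul_left, herm_vE_vE, herm_vE_vF, herm_vF_vE, herm_vF_vF, herm_vE_inW,
        herm_vF_inW, herm_inW_vE, herm_inW_vF, herm_inW] <;>
      simp [herm, Pi.single_apply]
  rw [torMat, Matrix.det_one_add_mul_comm, Matrix.mul_assoc, hRP, Matrix.mul_one, ← Matrix.diagonal_one,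
    Matrix.diagonal_add, Matrix.det_diagonal, Fin.prod_univ_three]
  have h2 : C.σ (a : F) ≠ 0 := (map_ne_zero C.σ).mpr a.ne_zero
  simp
  field_simp

/-- The torus element. -/
noncomputable def torEl (i₀ : κ) (a : Fˣ) : suG C (Fin 2 ⊕ κ) :=
  ⟨⟨torMat C i₀ a, torMat_det C i₀ a⟩, fun x y => by
    show herm C (torMat C i₀ a *ᵥ x) (torMat C i₀ a *ᵥ y) = _
    have he : herm C (Pi.single i₀ (1 : F)) (Pi.single i₀ 1) = 1 := by simp [herm, Pi.single_apply]
    simp only [torMat_mulVec, herm_add_left, herm_smul_left, herm_add_right, herm_smul_right, herm_vE_vE,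
      herm_vE_vF, herm_vF_vE, herm_vF_vF, herm_vE_inW, herm_vF_inW, herm_inW_vE, herm_inW_vF, herm_inW, he,
      map_mul, map_sub, map_one, map_inv₀, map_div₀, C.invol, conj_herm]
    have h2 : C.σ (a : F) ≠ 0 := (map_ne_zero C.σ).mpr a.ne_zero
    field_simp
    ring⟩

theorem app_torEl_vE (i₀ : κ) (a : Fˣ) : app C (torEl C i₀ a) (vE C κ) = (a : F) • vE C κ := by
  show torMat C i₀ a *ᵥ vE C κ = _
  rw [torMat_mulVec, herm_vE_vF, herm_vE_vE, herm_vE_inW]
  simp only [mul_one, mul_zero, zero_smul, add_zero, sub_smul, one_smul]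
  abel

end heisenberg

section maps

/-- Extension by the identity on the first two coordinates. -/
noncomputable def blockHom (κ : Type*) [Fintype κ] [DecidableEq κ] :
    suG C κ →* suG C (Fin 2 ⊕ κ) where
  toFun g := ⟨⟨Matrix.fromBlocks 1 0 0 g.1.1, by rw [Matrix.det_fromBlocks_zero₂₁, Matrix.det_one, one_mul, g.1.2]⟩,
    fun x y => by
      show herm C (Matrix.fromBlocks 1 0 0 g.1.1 *ᵥ x) (Matrix.fromBlocks 1 0 0 g.1.1 *ᵥ y) = _
      rw [Matrix.fromBlocks_mulVec, Matrix.fromBlocks_mulVec]
      simp only [Matrix.one_mulVec, Matrix.zero_mulVec, add_zero, zero_add, herm_sumElim]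
      rw [g.2]
      simp [herm, Fintype.sum_sum_type]⟩
  map_one' := Subtype.ext (Subtype.ext Matrix.fromBlocks_one)
  map_mul' g h := Subtype.ext (Subtype.ext (by
    show Matrix.fromBlocks 1 0 0 (g.1.1 * h.1.1) =
      Matrix.fromBlocks 1 0 0 g.1.1 * Matrix.fromBlocks 1 0 0 h.1.1
    simp [Matrix.fromBlocks_multiply]))

theorem app_blockHom {κ : Type*} [Fintype κ] [DecidableEq κ] (g : suG C κ) (x : Fin 2 ⊕ κ → F) :
    app C (blockHom C κ g) x = Sum.elim (x ∘ Sum.inl) (app C g (x ∘ Sum.inr)) := by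
  show Matrix.fromBlocks 1 0 0 g.1.1 *ᵥ x = _
  rw [Matrix.fromBlocks_mulVec]
  simp [app]

theorem IsTransv.blockHom {κ : Type*} [Fintype κ] [DecidableEq κ] {g : suG C κ} {v : κ → F} {c : F}
    (h : IsTransv C g v c) : IsTransv C (Unit.blockHom C κ g) (inW v) c := by
  intro x
  rw [app_blockHom, h]
  ext (i | i) <;> simp [inW, herm, Fintype.sum_sum_type]

/-- Renaming coordinates. -/
noncomputable def reindexHom {κ : Type*} [Fintype κ] [DecidableEq κ] (e : ι ≃ κ) :
    suG C ι →* suG C κ where
  toFun g := ⟨⟨g.1.1.submatrix e.symm e.symm, by rw [Matrix.det_submatrix_equiv_self, g.1.2]⟩, fun x y => by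
    show herm C (g.1.1.submatrix e.symm e.symm *ᵥ x) (g.1.1.submatrix e.symm e.symm *ᵥ y) = _
    have h : ∀ z, g.1.1.submatrix e.symm e.symm *ᵥ z = (g.1.1 *ᵥ (z ∘ e)) ∘ e.symm := fun z => by
      rw [Matrix.submatrix_mulVec_equiv]; rfl
    have hh : ∀ a b : ι → F, herm C (a ∘ e.symm) (b ∘ e.symm) = herm C a b := fun a b =>
      Equiv.sum_comp e.symm fun i => a i * C.σ (b i)
    rw [h, h, hh, g.2]
    exact Equiv.sum_comp e fun i => x i * C.σ (y i)⟩
  map_one' := Subtype.ext (Subtype.ext (Matrix.submatrix_one_equiv e.symm))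
  map_mul' g h := Subtype.ext (Subtype.ext (Matrix.submatrix_mul_equiv _ _ _ _ _).symm)

theorem app_reindexHom {κ : Type*} [Fintype κ] [DecidableEq κ] (e : ι ≃ κ) (g : suG C ι) (x : κ → F) :
    app C (reindexHom C e g) x = app C g (x ∘ e) ∘ e.symm := by
  show g.1.1.submatrix e.symm e.symm *ᵥ x = _
  rw [Matrix.submatrix_mulVec_equiv]; rfl

theorem IsTransv.reindexHom {κ : Type*} [Fintype κ] [DecidableEq κ] (e : ι ≃ κ) {g : suG C ι}
    {v : ι → F} {c : F} (h : IsTransv C g v c) : IsTransv C (Unit.reindexHom C e g) (v ∘ e.symm) c := by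
  intro x
  rw [app_reindexHom, h]
  have hh : herm C (x ∘ e) v = herm C x (v ∘ e.symm) := by
    unfold herm
    rw [← Equiv.sum_comp e (fun i => x i * C.σ ((v ∘ e.symm) i))]
    simp
  ext i
  simp [hh]

/-- The exchange of two pairs of coordinates. -/
def pairSwap (μ : Type*) [DecidableEq μ] : Equiv.Perm (Fin 2 ⊕ (Fin 2 ⊕ μ)) :=
  Equiv.swap (Sum.inl 0) (Sum.inr (Sum.inl 0)) * Equiv.swap (Sum.inl 1) (Sum.inr (Sum.inl 1))

/-- The exchange of two hyperbolic pairs, as a group element. -/
noncomputable def swapEl (μ : Type*) [Fintype μ] [DecidableEq μ] : suG C (Fin 2 ⊕ (Fin 2 ⊕ μ)) :=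
  ⟨⟨(pairSwap μ).permMatrix F, by
      rw [Matrix.det_permutation, pairSwap, map_mul, Equiv.Perm.sign_swap (by simp), Equiv.Perm.sign_swap (by simp)]
      simp⟩,
    fun x y => by
      show herm C ((pairSwap μ).permMatrix F *ᵥ x) ((pairSwap μ).permMatrix F *ᵥ y) = _
      rw [Matrix.permMatrix_mulVec, Matrix.permMatrix_mulVec]
      exact Equiv.sum_comp (pairSwap μ) fun i => x i * C.σ (y i)⟩

theorem app_swapEl_inW_vE (μ : Type*) [Fintype μ] [DecidableEq μ] :
    app C (swapEl C μ) (inW (vE C μ)) = vE C (Fin 2 ⊕ μ) := by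
  show (pairSwap μ).permMatrix F *ᵥ _ = _
  rw [Matrix.permMatrix_mulVec]
  ext i
  rcases i with i | i | i
  · fin_cases i <;> simp [pairSwap, inW, vE, Equiv.swap_apply_def]
  · fin_cases i <;> simp [pairSwap, inW, vE, Equiv.swap_apply_def]
  · simp [pairSwap, inW, vE, Equiv.swap_apply_def]

end maps

end CfsgLib.RepBounds.Unit
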